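import Groth.Agent.Cons62.QuasiFinite
import Groth.Agent.ConsProp93.PairInst
import Groth.Agent.Approx60.ProperDesc

/-! Properness on fibres: constructibility. -/

set_option autoImplicit false
set_option backward.isDefEq.respectTransparency.types false
universe u

open CategoryTheory CategoryTheory.Limits AlgebraicGeometry TopologicalSpace Topology

namespace Groth.Agent.ConsProper24

theorem respectsIso_isProper : MorphismProperty.RespectsIso (@IsProper : MorphismProperty Scheme.{u}) :=
  inferInstance

theorem cons_isProper {X Y S : Scheme.{u}} (f : X ⟶ Y) (g : Y ⟶ S) (h : Cons62.FP f g) :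
    IsLocallyConstructible (Cons62.goodSet @IsProper f g) := by
  have := respectsIso_isProper.{u}
  have : MorphismProperty.IsStableUnderBaseChange (@IsProper : MorphismProperty Scheme.{u}) := inferInstance
  have := LimDesc62.respectsIso_lft.{u}
  refine Cons62.cons_of_affine (fun {A X Y} f g h => ?_) f g h
  have := h.qc_f; have := h.qs_f; have := h.qc_g; have := h.qs_g; have := h.lfp_f; have := h.lfp_g
  refine Cons62.isLocallyConstructible_of_nhds
    (fun s hs => Cons62.exists_nhd_of_desc Approx60.descProp_isProper f g h inferInstance s hs) fun s hs => ?_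
  have : LocallyOfFiniteType (Cons62.fib f g s) := by unfold Cons62.fib; infer_instance
  by_cases hsep : s ∈ Cons62.goodSet @IsSeparated f g
  · obtain ⟨C, hC, hsC, hCsub⟩ := Cons62.exists_nhd_not_universallyClosed f g h s fun huc => hs <| by
      have : UniversallyClosed (Cons62.fib f g s) := huc
      have : IsSeparated (Cons62.fib f g s) := hsep
      exact (⟨⟩ : IsProper (Cons62.fib f g s))
    refine ⟨C, hC, hsC, fun t ht hgood => hCsub ht ?_⟩
    have : IsProper (Cons62.fib f g t) := hgood
    show UniversallyClosed (Cons62.fib f g t)
    infer_instance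
  · refine ⟨_, Cons62.isLocallyConstructible_compl (Cons62.cons_isSeparated f g), hsep, fun t ht hgood => ht ?_⟩
    have : IsProper (Cons62.fib f g t) := hgood
    show IsSeparated (Cons62.fib f g t)
    infer_instance

theorem pair_isProper :
    ConsPropPair.IsIndConsPair (ConsProp93.ExistsMor (@IsProper : MorphismProperty Scheme.{u})) :=
  ConsProp93.isIndConsPair_existsMor (Approx60.descProp_isProper.mono_hyp ConsProp93.lfp_le_lft)

end Groth.Agent.ConsProper24
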